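import Groth.Agent.L05.ComplConnectedScheme.Punctured
import Groth.Agent.L05.StrictGalois.Frac
import Groth.Agent.L03.GeomRegular
import Mathlib.RingTheory.Artinian.Module
import Mathlib.RingTheory.Ideal.MinimalPrime.Noetherian

/-!
Fractions defined on the punctured spectrum of a reduced local ring are integral.
-/

set_option autoImplicit false
set_option maxSynthPendingDepth 3
set_option linter.style.haveILetI false

open IsLocalRing

namespace Groth.L05.PuncturedSections

universe u

variable (A : Type u) [CommRing A] [IsNoetherianRing A] [IsLocalRing A] [IsReduced A]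

/-- An element of a reduced Artinian ring is integral when its image in every residue field is. -/
theorem isIntegral_of_forall_quotient (R : Type u) [CommRing R] [IsArtinianRing R] [IsReduced R] [Algebra A R]
    (x : R) (h : ∀ P : MaximalSpectrum R, IsIntegral A (Ideal.Quotient.mk P.asIdeal x)) : IsIntegral A x := by
  classical
  haveI := Fintype.ofFinite (MaximalSpectrum R)
  choose p hp hpx using h
  refine ⟨∏ P, p P, Polynomial.monic_prod_of_monic _ _ fun P _ => hp P, ?_⟩
  apply (IsArtinianRing.equivPi R).injective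
  rw [map_zero]
  funext P
  show Ideal.Quotient.mk P.asIdeal (Polynomial.eval₂ (algebraMap A R) x (∏ P, p P)) = 0
  rw [Polynomial.hom_eval₂, Polynomial.eval₂_finsetProd]
  exact Finset.prod_eq_zero (Finset.mem_univ P) (hpx P)

theorem isArtinian_fractionRing : IsArtinianRing (FractionRing A) :=
  Groth.L05.StrictGalois.isArtinianRing_fractionRing_of_finite A
    (minimalPrimes.finite_of_isNoetherianRing A)

theorem isReduced_fractionRing : IsReduced (FractionRing A) :=
  isReduced_localizationPreserves (nonZeroDivisors A) _ ‹_›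

/-- A noetherian reduced local ring all of whose normalisation has dimension at least two contains a regular
element in the maximal ideal. -/
theorem exists_regular (hdim : ∀ (m' : Ideal ↥(integralClosure A (FractionRing A))) [m'.IsMaximal],
      m'.comap (algebraMap A ↥(integralClosure A (FractionRing A))) = IsLocalRing.maximalIdeal A →
        2 ≤ ringKrullDim (Localization.AtPrime m')) :
    ∃ s ∈ maximalIdeal A, s ∈ nonZeroDivisors A := by
  by_contra hs
  push Not at hs
  have hfin := minimalPrimes.finite_of_isNoetherianRing A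
  have hsub : ((maximalIdeal A : Ideal A) : Set A) ⊆ ⋃ q ∈ minimalPrimes A, (q : Set A) := by
    intro x hx
    by_contra hx'
    refine hs x hx (mem_nonZeroDivisors_iff_right.2 fun y hy => ?_)
    have hy0 : y ∈ (⊥ : Ideal A).radical := by
      rw [← Ideal.sInf_minimalPrimes, Submodule.mem_sInf]
      exact fun q hq => (hq.1.1.mem_or_mem (hy.symm ▸ q.zero_mem : y * x ∈ q)).resolve_right
        fun h => hx' (Set.mem_biUnion hq h)
    rwa [show (⊥ : Ideal A).radical = nilradical A from rfl, nilradical_eq_zero A] at hy0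
  obtain ⟨q, hq, hle⟩ := (Ideal.subset_union_prime_finite hfin (f := fun q : Ideal A => q) ⊥ ⊥
    (fun q hq _ _ => hq.1.1)).1 hsub
  have hmin : maximalIdeal A ∈ minimalPrimes A := by
    rwa [(maximalIdeal.isMaximal A).eq_of_le hq.1.1.ne_top hle]
  have hf : IsField A := by
    rw [IsLocalRing.isField_iff_maximalIdeal_eq]
    refine eq_bot_iff.mpr (le_trans ?_ (nilradical_eq_zero A).le)
    rw [nilradical_eq_sInf]
    refine le_sInf fun p hp => ?_
    haveI : p.IsPrime := hp
    exact hmin.2 ⟨hp, bot_le⟩ (IsLocalRing.le_maximalIdeal hp.ne_top)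
  letI := hf.toField
  haveI : Nontrivial (FractionRing A) := (IsFractionRing.injective A (FractionRing A)).nontrivial
  haveI : IsDomain (FractionRing A) :=
    IsLocalization.isDomain_localization (le_refl (nonZeroDivisors A))
  let A' := integralClosure A (FractionRing A)
  have hA' : IsField A' := isField_of_isIntegral_of_isField' hf
  obtain ⟨m', hm'⟩ := Ideal.exists_maximal A'
  haveI := hm'
  have hbot : m' = ⊥ := by
    by_contra hne
    exact Ring.not_isField_iff_exists_ideal_bot_lt_and_lt_top.mpr
      ⟨m', bot_lt_iff_ne_bot.mpr hne, hm'.ne_top.lt_top⟩ hA'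
  have h2 := hdim m' ((IsLocalRing.eq_maximalIdeal (Ideal.isMaximal_comap_of_isIntegral_of_isMaximal m')))
  rw [IsLocalization.AtPrime.ringKrullDim_eq_height m', hbot, Ideal.height_bot] at h2
  exact absurd (show ((2 : ℕ) : ℕ∞) ≤ ((0 : ℕ) : ℕ∞) from WithBot.coe_le_coe.mp h2) (by decide)

/-- A fraction with denominators powers of every element of the maximal ideal is integral. -/
theorem isIntegral_of_powers (hdim : ∀ (m' : Ideal ↥(integralClosure A (FractionRing A))) [m'.IsMaximal],
      m'.comap (algebraMap A ↥(integralClosure A (FractionRing A))) = IsLocalRing.maximalIdeal A →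
        2 ≤ ringKrullDim (Localization.AtPrime m'))
    (x : FractionRing A) (hx : ∀ a ∈ maximalIdeal A, ∃ n : ℕ, IsIntegral A (algebraMap A _ a ^ n * x)) :
    IsIntegral A x := by
  classical
  let K := FractionRing A
  let A' := integralClosure A K
  haveI := isArtinian_fractionRing A
  haveI := isReduced_fractionRing A
  refine isIntegral_of_forall_quotient A K x fun P => ?_
  haveI := P.isMaximal
  letI := Ideal.Quotient.field P.asIdeal
  let L := K ⧸ P.asIdeal
  let p : Ideal A := RingHom.ker (algebraMap A L)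
  haveI : p.IsPrime := RingHom.ker_isPrime _
  let A₀ := A ⧸ p
  haveI : IsLocalRing A₀ := IsLocalRing.of_surjective' (Ideal.Quotient.mk p) Ideal.Quotient.mk_surjective
  letI : Algebra A₀ L := (Ideal.Quotient.lift p (algebraMap A L) fun a ha => ha).toAlgebra
  haveI : IsScalarTower A A₀ L := IsScalarTower.of_algebraMap_eq fun a => rfl
  haveI : FaithfulSMul A₀ L := (faithfulSMul_iff_algebraMap_injective _ _).mpr <| by
    rw [injective_iff_map_eq_zero]
    intro a ha
    obtain ⟨a, rfl⟩ := Ideal.Quotient.mk_surjective a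
    exact Ideal.Quotient.eq_zero_iff_mem.mpr ha
  haveI : IsFractionRing A₀ L := IsFractionRing.of_field A₀ L fun z => by
    obtain ⟨z, rfl⟩ := Ideal.Quotient.mk_surjective z
    obtain ⟨⟨a, b⟩, hab⟩ := IsLocalization.surj (nonZeroDivisors A) z
    refine ⟨Ideal.Quotient.mk p a, Ideal.Quotient.mk p b, ?_⟩
    show _ = Ideal.Quotient.mk P.asIdeal (algebraMap A K a) / Ideal.Quotient.mk P.asIdeal (algebraMap A K b)
    rw [eq_div_iff ((IsLocalization.map_units K b).map (Ideal.Quotient.mk P.asIdeal)).ne_zero, ← map_mul, hab]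
  let σ : FractionRing A₀ ≃ₐ[A₀] L := FractionRing.algEquiv A₀ L
  let N := integralClosure A₀ (FractionRing A₀)
  haveI : Algebra.IsIntegral A A₀ := ⟨fun a => by
    obtain ⟨a, rfl⟩ := Ideal.Quotient.mk_surjective a
    exact isIntegral_algebraMap⟩
  haveI := Fintype.ofFinite (MaximalSpectrum K)
  let e : K := (IsArtinianRing.equivPi K).symm (Pi.single P 1)
  have he : ∀ Q : MaximalSpectrum K, Ideal.Quotient.mk Q.asIdeal e =
      (Pi.single P 1 : ∀ I : MaximalSpectrum K, K ⧸ I.asIdeal) Q := fun Q => by
    rw [← (IsArtinianRing.equivPi K).apply_symm_apply (Pi.single P 1)]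
    rfl
  have he1 : Ideal.Quotient.mk P.asIdeal e = 1 := by rw [he, Pi.single_eq_same]
  have he0 : ∀ Q, Q ≠ P → Ideal.Quotient.mk Q.asIdeal e = 0 := fun Q hQ => by rw [he, Pi.single_eq_of_ne hQ]
  let μ : K →ₐ[A] L := Ideal.Quotient.mkₐ A P.asIdeal
  have hπ : ∀ y : A', IsIntegral A₀ (σ.symm (μ y.1)) := fun y =>
    (IsIntegral.tower_top (R := A) (y.2.map μ)).map σ.symm.toAlgHom
  let π : A' →+* N := RingHom.codRestrict (σ.symm.toRingEquiv.toRingHom.comp (μ.toRingHom.comp A'.val.toRingHom))
    N.toSubring hπ
  have hπsurj : Function.Surjective π := by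
    intro n
    obtain ⟨z, hz⟩ := Ideal.Quotient.mk_surjective (σ n.1)
    have hn : IsIntegral A (Ideal.Quotient.mk P.asIdeal z) := by
      rw [hz]
      exact isIntegral_trans (R := A) _ (n.2.map σ.toAlgHom)
    refine ⟨⟨e * z, isIntegral_of_forall_quotient A K _ fun Q => ?_⟩, Subtype.ext ?_⟩
    · rw [map_mul]
      by_cases hQ : Q = P
      · subst hQ; rw [he1, one_mul]; exact hn
      · rw [he0 Q hQ, zero_mul]; exact isIntegral_zero
    · show σ.symm (Ideal.Quotient.mk P.asIdeal (e * z)) = n.1
      rw [map_mul, he1, one_mul, hz, AlgEquiv.symm_apply_apply]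
  have heA' : IsIntegral A e := isIntegral_of_forall_quotient A K e fun Q => by
    by_cases hQ : Q = P
    · subst hQ; rw [he1]; exact isIntegral_one
    · rw [he0 Q hQ]; exact isIntegral_zero
  have hkill : ∀ y : A', π y = 0 → (⟨e, heA'⟩ : A') * y = 0 := by
    intro y hy
    have hy' : Ideal.Quotient.mk P.asIdeal y.1 = 0 := by
      have := congrArg (fun w : N => σ w.1) hy
      simp [π, μ] at this
      exact this
    refine Subtype.ext ((IsArtinianRing.equivPi K).injective (funext fun Q => ?_))
    show Ideal.Quotient.mk Q.asIdeal (e * y.1) = Ideal.Quotient.mk Q.asIdeal 0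
    rw [map_mul, map_zero]
    by_cases hQ : Q = P
    · subst hQ; rw [hy', mul_zero]
    · rw [he0 Q hQ, zero_mul]
  have hdim₀ : ∀ M : Ideal N, M.IsMaximal → 2 ≤ M.height := by
    intro M hM
    haveI := hM
    haveI : (M.comap π).IsMaximal := Ideal.comap_isMaximal_of_surjective π hπsurj
    have h2 := hdim (M.comap π) (IsLocalRing.eq_maximalIdeal
      (Ideal.isMaximal_comap_of_isIntegral_of_isMaximal (M.comap π)))
    obtain ⟨ψ⟩ := Groth.L03.GeomRegular.nonempty_localEquiv π hπsurj M fun y hy => ⟨⟨e, heA'⟩, fun h => by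
      have h1 : π ⟨e, heA'⟩ = 1 := Subtype.ext (by show σ.symm (μ e) = 1; rw [show μ e = 1 from he1, map_one])
      rw [h1] at h
      exact hM.ne_top ((Ideal.eq_top_iff_one _).mpr h), hkill y hy⟩
    rw [ringKrullDim_eq_of_ringEquiv ψ, IsLocalization.AtPrime.ringKrullDim_eq_height M] at h2
    exact WithBot.coe_le_coe.mp h2
  have hx₀ := Groth.L05.ComplConnectedScheme.isIntegral_of_punctured A₀ hdim₀ (σ.symm (μ x)) fun a ha => by
    obtain ⟨a, rfl⟩ := Ideal.Quotient.mk_surjective a
    obtain ⟨n, hn⟩ := hx a ((mem_maximalIdeal a).mpr fun hu => (mem_maximalIdeal _).mp ha (hu.map _))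
    refine ⟨n, ?_⟩
    have := (IsIntegral.tower_top (R := A) (hn.map μ) : IsIntegral A₀ _).map σ.symm.toAlgHom
    rw [map_mul, map_pow, AlgHom.commutes, IsScalarTower.algebraMap_apply A A₀ L] at this
    simp at this
    exact this
  have := isIntegral_trans (R := A) _ (hx₀.map σ.toAlgHom)
  simp [μ] at this
  exact this

end Groth.L05.PuncturedSections
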