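import Groth.Agent.L05.PuncturedSections.Algebra
import Groth.Prelude.Def_FEt
import Mathlib.AlgebraicGeometry.Scheme
import Mathlib.RingTheory.Polynomial.Basic

/-!
Sections over the punctured spectrum of a reduced local ring inside the normalisation.
-/

set_option autoImplicit false
set_option linter.style.haveILetI false
set_option maxSynthPendingDepth 3
set_option backward.isDefEq.respectTransparency.types false
set_option backward.isDefEq.respectTransparency false

open CategoryTheory AlgebraicGeometry TopologicalSpace Opposite IsLocalRing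

namespace Groth.L05.PuncturedSections

universe u

variable (A : Type u) [CommRing A] [IsNoetherianRing A] [IsLocalRing A] [IsReduced A]

theorem punctured_sections (hdim : ∀ (m' : Ideal ↥(integralClosure A (FractionRing A))) [m'.IsMaximal],
      m'.comap (algebraMap A ↥(integralClosure A (FractionRing A))) = IsLocalRing.maximalIdeal A →
        2 ≤ ringKrullDim (Localization.AtPrime m')) :
    (((Spec (CommRingCat.of A)).presheaf.map (homOfLE (le_top : FEt.puncturedSpec A ≤ ⊤)).op).hom.comp
        (Scheme.ΓSpecIso (CommRingCat.of A)).inv.hom).IsIntegral ∧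
      ∃ φ : ↑((Spec (CommRingCat.of A)).presheaf.obj (op (FEt.puncturedSpec A))) →+* ↥(integralClosure A (FractionRing A)),
        Function.Injective φ ∧
          φ.comp (((Spec (CommRingCat.of A)).presheaf.map (homOfLE (le_top : FEt.puncturedSpec A ≤ ⊤)).op).hom.comp
            (Scheme.ΓSpecIso (CommRingCat.of A)).inv.hom) = algebraMap A ↥(integralClosure A (FractionRing A)) := by
  obtain ⟨s, hsm, hs⟩ := exists_regular A hdim
  let K := FractionRing A
  let F := Spec.structureSheaf A
  let U : Opens (PrimeSpectrum A) := FEt.puncturedSpec A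
  let O := fun V : Opens (PrimeSpectrum A) => F.obj.obj (op V)
  have hD : ∀ a ∈ maximalIdeal A, PrimeSpectrum.basicOpen a ≤ U := fun a ha P hP h =>
    hP (by rw [Set.mem_singleton_iff.mp h]; exact ha)
  let res : ∀ {V W : Opens (PrimeSpectrum A)}, W ≤ V → O V →+* O W := fun h => (F.obj.map (homOfLE h).op).hom
  have hres : ∀ {V W : Opens (PrimeSpectrum A)} (h : W ≤ V) (a : A),
      res h (algebraMap A (O V) a) = algebraMap A (O W) a := fun h a => rfl
  have hres2 : ∀ {V W Z : Opens (PrimeSpectrum A)} (h : W ≤ V) (h' : Z ≤ W) (z : O V),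
      res h' (res h z) = res (h'.trans h) z := fun h h' z => by
    show ((F.obj.map (homOfLE h).op) ≫ F.obj.map (homOfLE h').op).hom z = _
    rw [← F.obj.map_comp]; rfl
  let ι : O (PrimeSpectrum.basicOpen s) →+* K :=
    IsLocalization.Away.lift (S := O (PrimeSpectrum.basicOpen s)) s (g := algebraMap A K)
      (IsLocalization.map_units K (⟨s, hs⟩ : nonZeroDivisors A))
  have hι : ∀ a, ι (algebraMap A _ a) = algebraMap A K a := fun a => IsLocalization.Away.lift_eq s _ a
  let φ₀ : O U →+* K := ι.comp (res (hD s hsm))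
  have hφ₀ : ∀ a, φ₀ (algebraMap A _ a) = algebraMap A K a := fun a => by
    show ι (res _ (algebraMap A (O U) a)) = _
    rw [hres, hι]
  have hιinj : Function.Injective ι := by
    rw [injective_iff_map_eq_zero]
    intro z hz
    obtain ⟨⟨b, c⟩, hb⟩ := IsLocalization.surj (Submonoid.powers s) z
    have h := congrArg ι hb
    rw [map_mul, hz, zero_mul, hι] at h
    have hb0 : b = 0 := IsFractionRing.injective A K (h.symm.trans (map_zero _).symm)
    rw [hb0, map_zero] at hb
    exact (IsLocalization.map_units _ c).mul_left_eq_zero.mp hb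
  have hkill : ∀ (z : O U) (a : A) (ha : a ∈ maximalIdeal A), res (hD a ha) z = 0 →
      ∃ k : ℕ, algebraMap A K a ^ k * φ₀ z = 0 := by
    intro z a ha hz
    let z' := res (hD s hsm) z
    obtain ⟨⟨b, c⟩, hb⟩ := IsLocalization.surj (Submonoid.powers s) z'
    have hle₁ : PrimeSpectrum.basicOpen (a * s) ≤ PrimeSpectrum.basicOpen s :=
      PrimeSpectrum.basicOpen_mul_le_right a s
    have hle₂ : PrimeSpectrum.basicOpen (a * s) ≤ PrimeSpectrum.basicOpen a :=
      PrimeSpectrum.basicOpen_mul_le_left a s
    have h0 : res hle₁ z' = 0 := by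
      show res hle₁ (res (hD s hsm) z) = 0
      rw [hres2, ← hres2 (hD a ha) hle₂, hz, map_zero]
    have hb0 := congrArg (res hle₁) hb
    rw [map_mul, h0, zero_mul, hres] at hb0
    obtain ⟨⟨-, k, rfl⟩, hk⟩ := (IsLocalization.map_eq_zero_iff (Submonoid.powers (a * s)) _ b).mp hb0.symm
    refine ⟨k, ?_⟩
    have hk' : a ^ k * b = 0 := mem_nonZeroDivisors_iff_right.mp (pow_mem hs k) _
      (by simp only [mul_pow] at hk; linear_combination hk)
    have h := congrArg ι hb
    rw [map_mul] at h
    have hc : IsUnit (ι (algebraMap A _ (c : A))) := (IsLocalization.map_units _ c).map ι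
    refine (hc.mul_left_eq_zero).mp ?_
    show algebraMap A K a ^ k * ι z' * _ = 0
    rw [mul_assoc]; erw [h]; rw [hι, ← map_pow, ← map_mul, hk', map_zero]
  have hint : ∀ z : O U, IsIntegral A (φ₀ z) := by
    refine fun z => isIntegral_of_powers A hdim (φ₀ z) fun a ha => ?_
    obtain ⟨⟨b, ⟨-, n, rfl⟩⟩, hb⟩ := IsLocalization.surj (Submonoid.powers a) (res (hD a ha) z)
    obtain ⟨k, hk⟩ := hkill (algebraMap A _ (a ^ n) * z - algebraMap A _ b) a ha (by
      rw [map_sub, map_mul, hres, hres, mul_comm]
      exact sub_eq_zero.mpr hb)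
    refine ⟨k + n, ?_⟩
    have : algebraMap A K a ^ (k + n) * φ₀ z = algebraMap A K (a ^ k * b) := by
      rw [map_sub, map_mul, hφ₀, hφ₀, map_pow] at hk
      rw [map_mul, map_pow]
      linear_combination hk
    rw [this]
    exact isIntegral_algebraMap
  let φ : O U →+* integralClosure A K := RingHom.codRestrict φ₀ (integralClosure A K).toSubring hint
  have hφ₀inj : Function.Injective φ₀ := by
    rw [injective_iff_map_eq_zero]
    intro z hz
    have hzs : res (hD s hsm) z = 0 := (map_eq_zero_iff ι hιinj).mp hz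
    refine F.eq_of_locally_eq' (fun a : maximalIdeal A => PrimeSpectrum.basicOpen a.1) U
      (fun a => homOfLE (hD a.1 a.2)) (fun P hP => ?_) z 0 fun a => ?_
    · have hne : P.asIdeal ≠ maximalIdeal A := fun h => hP (PrimeSpectrum.ext h)
      obtain ⟨a, ha, haP⟩ := SetLike.not_le_iff_exists.mp fun h =>
        hne ((maximalIdeal.isMaximal A).eq_of_le P.isPrime.ne_top h).symm
      exact Opens.mem_iSup.mpr ⟨⟨a, ha⟩, haP⟩
    · show res (hD a.1 a.2) z = res (hD a.1 a.2) 0
      rw [map_zero]
      let z' := res (hD a.1 a.2) z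
      obtain ⟨⟨b, c⟩, hb⟩ := IsLocalization.surj (Submonoid.powers a.1) z'
      have hle₁ : PrimeSpectrum.basicOpen (a.1 * s) ≤ PrimeSpectrum.basicOpen s :=
        PrimeSpectrum.basicOpen_mul_le_right a.1 s
      have hle₂ : PrimeSpectrum.basicOpen (a.1 * s) ≤ PrimeSpectrum.basicOpen a.1 :=
        PrimeSpectrum.basicOpen_mul_le_left a.1 s
      have hb0 := congrArg (res hle₂) hb
      rw [map_mul, hres, show res hle₂ z' = 0 by
        show res hle₂ (res (hD a.1 a.2) z) = 0
        rw [hres2, ← hres2 (hD s hsm) hle₁, hzs, map_zero], zero_mul] at hb0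
      obtain ⟨⟨-, k, rfl⟩, hk⟩ := (IsLocalization.map_eq_zero_iff (Submonoid.powers (a.1 * s)) _ b).mp hb0.symm
      have hk' : a.1 ^ k * b = 0 := mem_nonZeroDivisors_iff_right.mp (pow_mem hs k) _
        (by simp only [mul_pow] at hk; linear_combination hk)
      have hbz : algebraMap A (O (PrimeSpectrum.basicOpen a.1)) b = 0 :=
        (IsLocalization.map_eq_zero_iff (Submonoid.powers a.1) _ b).mpr ⟨⟨_, k, rfl⟩, hk'⟩
      rw [hbz] at hb
      exact (IsLocalization.map_units _ c).mul_left_eq_zero.mp hb
  have hg : ∀ a : A, (((Spec (CommRingCat.of A)).presheaf.map (homOfLE (le_top : FEt.puncturedSpec A ≤ ⊤)).op).hom.comp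
        (Scheme.ΓSpecIso (CommRingCat.of A)).inv.hom) a = algebraMap A (O U) a := fun a => rfl
  refine ⟨?_, φ, fun x y h => hφ₀inj (congrArg Subtype.val h), RingHom.ext fun a => ?_⟩
  · intro z
    obtain ⟨p, hp, hpz⟩ := hint z
    refine ⟨p, hp, hφ₀inj ?_⟩
    rw [map_zero, Polynomial.hom_eval₂]
    refine Eq.trans ?_ hpz
    congr 1
    exact RingHom.ext fun a => (congrArg φ₀ (hg a)).trans (hφ₀ a)
  · refine Subtype.ext ?_
    show φ₀ _ = algebraMap A K a
    exact (congrArg φ₀ (hg a)).trans (hφ₀ a)

end Groth.L05.PuncturedSections
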